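import Mathlib

/-!
# Differentials of a smooth local ring of dimension one (helper8, S6555)

`O` local noetherian domain, formally smooth over a field `k`, with `Ω[O⁄k]` free of rank one and
residue field separable over `k`.  Then `O` is a DVR and `Ω[O⁄k]` is free on `d s` for any
uniformizer `s`.
-/

set_option autoImplicit false
universe u

open IsLocalRing KaehlerDifferential TensorProduct

namespace Groth.Agent.H8.OmDvr

section Alg

variable (k O κ : Type u) [Field k] [CommRing O] [IsLocalRing O] [IsDomain O] [IsNoetherianRing O]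
  [Algebra k O] [Algebra.FormallySmooth k O]
  [Field κ] [Algebra O κ] [Algebra k κ] [IsScalarTower k O κ] [Algebra.IsSeparable k κ]

theorem key (hκ : Function.Surjective (algebraMap O κ)) (ℓ : Ω[O⁄k] ≃ₗ[O] O) :
    (∃ t ∈ RingHom.ker (algebraMap O κ), IsUnit (ℓ (D k O t))) ∧
    (∀ y ∈ RingHom.ker (algebraMap O κ), ℓ (D k O y) ∈ RingHom.ker (algebraMap O κ) →
      y ∈ (RingHom.ker (algebraMap O κ)) ^ 2) := by
  haveI : Algebra.FormallyEtale k κ := Algebra.FormallyEtale.of_isSeparable k κ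
  haveI : Algebra.FormallySmooth k κ := inferInstance
  haveI : Algebra.FormallyUnramified k κ := inferInstance
  have hImax : RingHom.ker (algebraMap O κ) = maximalIdeal O :=
    IsLocalRing.eq_maximalIdeal (RingHom.ker_isMaximal_of_surjective _ hκ)
  let θ : κ ⊗[O] Ω[O⁄k] ≃ₗ[O] κ := (LinearEquiv.lTensor κ ℓ).trans (TensorProduct.rid O κ)
  have hθ : ∀ (c : κ) (ω : Ω[O⁄k]), θ (c ⊗ₜ ω) = ℓ ω • c := by
    intro c ω
    simp [θ]
  have hinj : Function.Injective (kerCotangentToTensor k O κ) := by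
    obtain ⟨l, hl⟩ :=
      (Algebra.FormallySmooth.iff_split_injection (R := k) (P := O) (A := κ) hκ).mp inferInstance
    exact Function.LeftInverse.injective (g := l) (fun x => LinearMap.congr_fun hl x)
  have hsurj : Function.Surjective (kerCotangentToTensor k O κ) := by
    intro z
    exact (KaehlerDifferential.exact_kerCotangentToTensor_mapBaseChange k O κ hκ z).mp
      (Subsingleton.elim _ _)
  have hT : ∀ y : RingHom.ker (algebraMap O κ),
      θ (kerCotangentToTensor k O κ ((RingHom.ker (algebraMap O κ)).toCotangent y)) =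
        algebraMap O κ (ℓ (D k O y.1)) := by
    intro y
    rw [kerCotangentToTensor_toCotangent, hθ, Algebra.smul_def, mul_one]
  constructor
  · obtain ⟨c, hc⟩ := hsurj (θ.symm 1)
    obtain ⟨t, rfl⟩ := Ideal.toCotangent_surjective _ c
    refine ⟨t.1, t.2, ?_⟩
    have h1 : algebraMap O κ (ℓ (D k O t.1)) = 1 := by
      rw [← hT, hc, LinearEquiv.apply_symm_apply]
    by_contra hnu
    have h2 : ℓ (D k O t.1) ∈ RingHom.ker (algebraMap O κ) :=
      hImax.ge ((IsLocalRing.mem_maximalIdeal _).2 hnu)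
    rw [RingHom.mem_ker, h1] at h2
    exact one_ne_zero h2
  · intro y hy hδ
    have h0 : kerCotangentToTensor k O κ ((RingHom.ker (algebraMap O κ)).toCotangent ⟨y, hy⟩) =
        0 := by
      apply θ.injective
      rw [hT, map_zero]
      exact (RingHom.mem_ker).1 hδ
    have h1 : (RingHom.ker (algebraMap O κ)).toCotangent ⟨y, hy⟩ = 0 :=
      hinj (by rw [h0, map_zero])
    exact (Ideal.toCotangent_eq_zero _ ⟨y, hy⟩).1 h1

theorem alg_main (hκ : Function.Surjective (algebraMap O κ)) (ℓ : Ω[O⁄k] ≃ₗ[O] O)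
    (s : O) (hs : Irreducible s) :
    Function.Bijective (fun a : O => a • D k O s) := by
  obtain ⟨⟨t, htI, htu⟩, hsq⟩ := key k O κ hκ ℓ
  have hImax : RingHom.ker (algebraMap O κ) = maximalIdeal O :=
    IsLocalRing.eq_maximalIdeal (RingHom.ker_isMaximal_of_surjective _ hκ)
  rw [hImax] at htI hsq
  have hδmul : ∀ a b : O, ℓ (D k O (a * b)) = a * ℓ (D k O b) + b * ℓ (D k O a) := by
    intro a b
    rw [Derivation.leibniz, map_add, map_smul, map_smul, smul_eq_mul, smul_eq_mul]
  -- the maximal ideal is generated by `t`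
  have hle : maximalIdeal O ≤ Ideal.span {t} := by
    have hfg : (maximalIdeal O : Submodule O O).FG := IsNoetherian.noetherian _
    refine Submodule.le_of_le_smul_of_le_jacobson_bot (I := maximalIdeal O) hfg
      (IsLocalRing.maximalIdeal_le_jacobson _) ?_
    intro y hy
    obtain ⟨u, hu⟩ := htu
    have hmem : y - ℓ (D k O y) * ↑u⁻¹ * t ∈ maximalIdeal O :=
      Ideal.sub_mem _ hy (Ideal.mul_mem_left _ _ htI)
    have hsq' : y - ℓ (D k O y) * ↑u⁻¹ * t ∈ maximalIdeal O ^ 2 := by
      refine hsq _ hmem ?_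
      have e1 : ℓ (D k O (y - ℓ (D k O y) * ↑u⁻¹ * t)) =
          -(t * ℓ (D k O (ℓ (D k O y) * ↑u⁻¹))) := by
        rw [map_sub, map_sub, hδmul, ← hu, Units.inv_mul_cancel_right]
        ring
      rw [e1]
      exact (Ideal.neg_mem_iff _).2 (Ideal.mul_mem_right _ _ htI)
    have hy' : y = ℓ (D k O y) * ↑u⁻¹ * t + (y - ℓ (D k O y) * ↑u⁻¹ * t) := by ring
    rw [hy']
    refine Submodule.add_mem_sup (Ideal.mem_span_singleton'.2 ⟨_, rfl⟩) ?_
    rw [smul_eq_mul, ← pow_two]
    exact hsq'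
  have heq : maximalIdeal O = Ideal.span {t} :=
    le_antisymm hle ((Ideal.span_singleton_le_iff_mem _).2 htI)
  have ht0 : t ≠ 0 := by
    rintro rfl
    rw [map_zero, map_zero] at htu
    exact not_isUnit_zero htu
  have hnf : ¬ IsField O := by
    rw [IsLocalRing.isField_iff_maximalIdeal_eq, heq, Ideal.span_singleton_eq_bot]
    exact ht0
  haveI : IsDiscreteValuationRing O :=
    ((IsDiscreteValuationRing.TFAE O hnf).out 0 4).mpr
      (show (maximalIdeal O).IsPrincipal from ⟨⟨t, heq⟩⟩)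
  have hms : maximalIdeal O = Ideal.span {s} := hs.maximalIdeal_eq
  have hsm : s ∈ maximalIdeal O := by rw [hms]; exact Ideal.mem_span_singleton_self s
  obtain ⟨c, hc⟩ : ∃ c, c * s = t := Ideal.mem_span_singleton'.1 (hms ▸ htI)
  have hus : IsUnit (ℓ (D k O s)) := by
    rw [← hc, hδmul] at htu
    by_contra hnu
    have h1 : c * ℓ (D k O s) ∈ maximalIdeal O :=
      Ideal.mul_mem_left _ _ ((IsLocalRing.mem_maximalIdeal _).2 hnu)
    have h2 : s * ℓ (D k O c) ∈ maximalIdeal O := Ideal.mul_mem_right _ _ hsm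
    exact (IsLocalRing.mem_maximalIdeal _).1 (Ideal.add_mem _ h1 h2) htu
  obtain ⟨v, hv⟩ := hus
  constructor
  · intro a b hab
    have h1 : ℓ (a • D k O s) = ℓ (b • D k O s) := congrArg ℓ hab
    rw [map_smul, map_smul, smul_eq_mul, smul_eq_mul, ← hv] at h1
    exact mul_right_cancel₀ v.ne_zero h1
  · intro ω
    refine ⟨ℓ ω * ↑v⁻¹, ?_⟩
    apply ℓ.injective
    show ℓ ((ℓ ω * ↑v⁻¹) • D k O s) = ℓ ω
    rw [map_smul, smul_eq_mul, ← hv, Units.inv_mul_cancel_right]

end Alg

end Groth.Agent.H8.OmDvr
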