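import Mathlib
import Groth.Prelude.Def_CurvBase
import Groth.Agent.Lib.Helper8.OmDvr.Alg
import Groth.Agent.Lib.Helper8.SmPrime.Normal

/-!
# `Ω` of the local ring of a smooth curve at a separable closed point (helper8, S6555)
-/

set_option autoImplicit false
universe u

open IsLocalRing KaehlerDifferential TensorProduct CategoryTheory AlgebraicGeometry

namespace Groth.Agent.H8.OmDvr

section Loc

variable (k R O κ : Type u) [Field k] [CommRing R] [CommRing O] [Algebra k R] [Algebra R O]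
  [Algebra k O] [IsScalarTower k R O] [Algebra.IsStandardSmoothOfRelativeDimension 1 k R]
  (q : Ideal R) [q.IsPrime] [IsLocalization.AtPrime O q]

include q in
theorem formallySmooth_loc : Algebra.FormallySmooth k O := by
  haveI : Algebra.IsStandardSmooth k R :=
    Algebra.IsStandardSmoothOfRelativeDimension.isStandardSmooth 1
  haveI : Algebra.FormallySmooth R O := Algebra.FormallySmooth.of_isLocalization q.primeCompl
  exact Algebra.FormallySmooth.comp k R O

include q in
theorem nonempty_kaehler_equiv : Nonempty (Ω[O⁄k] ≃ₗ[O] O) := by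
  haveI : Algebra.IsStandardSmooth k R :=
    Algebra.IsStandardSmoothOfRelativeDimension.isStandardSmooth 1
  haveI : Nontrivial R :=
    ⟨⟨0, 1, fun h => (inferInstance : q.IsPrime).ne_top ((Ideal.eq_top_iff_one q).2 (h ▸ q.zero_mem))⟩⟩
  haveI : Module.Free R Ω[R⁄k] := inferInstance
  have hrank : Module.rank R Ω[R⁄k] = 1 := by
    have := Algebra.IsStandardSmoothOfRelativeDimension.rank_kaehlerDifferential
      (R := k) (S := R) 1
    simpa using this
  obtain ⟨ℓR⟩ : Nonempty (Ω[R⁄k] ≃ₗ[R] R) :=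
    nonempty_linearEquiv_of_rank_eq (hrank.trans (Module.rank_self R).symm)
  haveI : Algebra.FormallyEtale R O := Algebra.FormallyEtale.of_isLocalization q.primeCompl
  have hbc : IsBaseChange O (KaehlerDifferential.map k k R O) :=
    KaehlerDifferential.isBaseChange_of_formallyEtale k R O
  exact ⟨hbc.equiv.symm ≪≫ₗ
    (TensorProduct.AlgebraTensorModule.congr (LinearEquiv.refl O O) ℓR) ≪≫ₗ
    (TensorProduct.AlgebraTensorModule.rid R O O)⟩

include q in
theorem loc_main [Field κ] [Algebra O κ] [Algebra k κ] [IsScalarTower k O κ]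
    [Algebra.IsSeparable k κ] (hκ : Function.Surjective (algebraMap O κ))
    (s : O) (hs : Irreducible s) :
    Function.Bijective (fun a : O => a • D k O s) := by
  haveI : Algebra.IsStandardSmooth k R :=
    Algebra.IsStandardSmoothOfRelativeDimension.isStandardSmooth 1
  haveI : IsNoetherianRing R := Algebra.FiniteType.isNoetherianRing k R
  haveI : IsNoetherianRing O := IsLocalization.isNoetherianRing q.primeCompl O inferInstance
  haveI : IsLocalRing O := IsLocalization.AtPrime.isLocalRing O q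
  haveI : IsDomain O := (Groth.Agent.H8.SmPrime.normal_of_smooth_isLocalization k R q O).1
  haveI : Algebra.FormallySmooth k O := formallySmooth_loc k R O q
  obtain ⟨ℓ⟩ := nonempty_kaehler_equiv k R O q
  exact alg_main k O κ hκ ℓ s hs

end Loc

section Sch

attribute [local instance] Curv2.resAlgebra Curv2.stalkAlgebra

theorem sch_main (k : Type u) [Field k] (X : Scheme.{u}) [X.Over (Spec (CommRingCat.of k))]
    (x : X)
    (hsm : ∃ U : X.Opens, x ∈ U ∧
      SmoothOfRelativeDimension 1 (U.ι ≫ (X ↘ (Spec (CommRingCat.of k)))))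
    (hsep : Algebra.IsSeparable k (X.residueField x))
    (s : X.presheaf.stalk x) (hs : Irreducible s) :
    Function.Bijective
      (fun a : X.presheaf.stalk x => a • KaehlerDifferential.D k (X.presheaf.stalk x) s) := by
  obtain ⟨U, hxU, hU⟩ := hsm
  obtain ⟨W, hW, V', hV', hyV', e, hstd⟩ :=
    hU.exists_isStandardSmoothOfRelativeDimension ⟨x, hxU⟩
  haveI : Subsingleton ↥(Spec (CommRingCat.of k)) :=
    inferInstanceAs (Subsingleton (PrimeSpectrum k))
  have hWtop : W = ⊤ := by
    ext z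
    have hz : z = (U.ι ≫ (X ↘ (Spec (CommRingCat.of k)))) ⟨x, hxU⟩ := Subsingleton.elim _ _
    constructor
    · intro _; trivial
    · intro _
      rw [SetLike.mem_coe, hz]
      exact e hyV'
  subst hWtop
  -- the affine chart in `X`
  have hV : IsAffineOpen (U.ι ''ᵁ V') := hV'.image_of_isOpenImmersion U.ι
  have hxV : x ∈ U.ι ''ᵁ V' := ⟨⟨x, hxU⟩, hyV', rfl⟩
  have e₁ : U.ι ''ᵁ V' ≤ (X ↘ (Spec (CommRingCat.of k))) ⁻¹ᵁ ⊤ := fun _ _ => trivial
  have e₂ : V' ≤ U.ι ⁻¹ᵁ (U.ι ''ᵁ V') := (Scheme.Hom.preimage_image_eq U.ι V').ge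
  have hcomp : (X ↘ (Spec (CommRingCat.of k))).appLE ⊤ (U.ι ''ᵁ V') e₁ ≫ (U.ι.appIso V').hom =
      (U.ι ≫ (X ↘ (Spec (CommRingCat.of k)))).appLE ⊤ V' e := by
    rw [Scheme.Hom.appIso_hom']
    exact Scheme.Hom.appLE_comp_appLE U.ι (X ↘ (Spec (CommRingCat.of k))) ⊤ (U.ι ''ᵁ V') V' e₁ _
  have hstd1 : RingHom.IsStandardSmoothOfRelativeDimension 1
      ((X ↘ (Spec (CommRingCat.of k))).appLE ⊤ (U.ι ''ᵁ V') e₁).hom := by
    rw [← hcomp, CommRingCat.hom_comp] at hstd
    exact (RingHom.RespectsIso.cancel_right_isIso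
      (RingHom.isStandardSmoothOfRelativeDimension_respectsIso (n := 1)) _ _).mp hstd
  set φ : CommRingCat.of k ⟶ Γ(X, U.ι ''ᵁ V') :=
    (Scheme.ΓSpecIso (CommRingCat.of k)).inv ≫
      (X ↘ (Spec (CommRingCat.of k))).appLE ⊤ (U.ι ''ᵁ V') e₁ with hφ
  have hstd2 : RingHom.IsStandardSmoothOfRelativeDimension 1 φ.hom := by
    rw [hφ, CommRingCat.hom_comp]
    exact (RingHom.RespectsIso.cancel_left_isIso
      (RingHom.isStandardSmoothOfRelativeDimension_respectsIso (n := 1)) _ _).mpr hstd1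
  letI aR : Algebra k Γ(X, U.ι ''ᵁ V') := φ.hom.toAlgebra
  letI aRO : Algebra Γ(X, U.ι ''ᵁ V') (X.presheaf.stalk x) :=
    X.presheaf.algebra_section_stalk ⟨x, hxV⟩
  haveI : IsScalarTower k Γ(X, U.ι ''ᵁ V') (X.presheaf.stalk x) := by
    refine IsScalarTower.of_algebraMap_eq (fun t => ?_)
    show (X.presheaf.germ ⊤ x trivial).hom ((X ↘ (Spec (CommRingCat.of k))).appTop.hom
        ((Scheme.ΓSpecIso (CommRingCat.of k)).inv.hom t)) =
      (X.presheaf.germ (U.ι ''ᵁ V') x hxV).hom
        ((X.presheaf.map (homOfLE e₁).op).hom ((X ↘ (Spec (CommRingCat.of k))).appTop.hom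
          ((Scheme.ΓSpecIso (CommRingCat.of k)).inv.hom t)))
    exact (TopCat.Presheaf.germ_res_apply X.presheaf (homOfLE e₁) x hxV _).symm
  haveI hloc : IsLocalization.AtPrime (X.presheaf.stalk x)
      (hV.primeIdealOf ⟨x, hxV⟩).asIdeal := hV.isLocalization_stalk ⟨x, hxV⟩
  haveI : Algebra.IsStandardSmoothOfRelativeDimension 1 k Γ(X, U.ι ''ᵁ V') := hstd2.toAlgebra
  letI aOκ : Algebra (X.presheaf.stalk x) (X.residueField x) := (X.residue x).hom.toAlgebra
  haveI : IsScalarTower k (X.presheaf.stalk x) (X.residueField x) :=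
    IsScalarTower.of_algebraMap_eq (fun _ => rfl)
  have hκ : Function.Surjective (algebraMap (X.presheaf.stalk x) (X.residueField x)) :=
    IsLocalRing.residue_surjective
  exact loc_main k Γ(X, U.ι ''ᵁ V') (X.presheaf.stalk x) (X.residueField x)
    (hV.primeIdealOf ⟨x, hxV⟩).asIdeal hκ s hs

end Sch

end Groth.Agent.H8.OmDvr
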